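import Cfsg.Agent.H290.ElWt

/-!
# TEAM ELUSIVE: an element of order 13 in `GL_n(3)` conjugate to its fifth power: `n ≥ 12` (helper983)

`twelve_le` : the eigenvalues of `x` over the algebraic closure are closed under the third power (Frobenius) and under
the fifth power, so all twelve nontrivial 13-th roots of unity occur.
-/

set_option autoImplicit false

namespace Cfsg.Agent.H983.ElX

open Cfsg.Agent.H290.ElWt Cfsg.Agent.H912.Bd Module

section Abs

variable {K : Type*} [Field K] {V : Type*} [AddCommGroup V] [Module K V]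

/-- `l ^ k` is an eigenvalue of `f` -/
def Ev (f : Module.End K V) (l : K) (k : ℕ) : Prop := ∃ v : V, v ≠ 0 ∧ f v = l ^ k • v

theorem pow_apply {f : Module.End K V} {c : K} {v : V} (h : f v = c • v) (n : ℕ) : (f ^ n) v = c ^ n • v := by
  induction n with
  | zero => rw [pow_zero, pow_zero, one_smul]; rfl
  | succ n ih =>
    rw [pow_succ', Module.End.mul_apply, ih, map_smul, h, smul_smul, pow_succ]

theorem pow_thirteen {f : Module.End K V} {l : K} (hf : f ^ 13 = 1) (h : Ev f l 1) : l ^ 13 = 1 := by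
  obtain ⟨v, hv0, hv⟩ := h
  have h2 := pow_apply hv 13
  rw [hf, Module.End.one_apply, pow_one] at h2
  by_contra hne
  apply hv0
  have h4 : (l ^ 13 - 1) • v = 0 := by rw [sub_smul, ← h2, one_smul, sub_self]
  exact (smul_eq_zero.1 h4).resolve_left (sub_ne_zero.2 hne)

theorem Ev.mod {f : Module.End K V} {l : K} (hl : l ^ 13 = 1) {k k' : ℕ} (h : Ev f l k) (hk : k % 13 = k' % 13) :
    Ev f l k' := by
  obtain ⟨v, hv0, hv⟩ := h
  have h1 : ∀ n : ℕ, l ^ n = l ^ (n % 13) := fun n => by
    conv_lhs => rw [← Nat.mod_add_div n 13, pow_add, pow_mul, hl, one_pow, mul_one]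
  exact ⟨v, hv0, by rw [hv, h1 k, hk, ← h1 k']⟩

/-- closed under the fifth power -/
theorem Ev.five {f g g' : Module.End K V} {l : K} (hgg : g * g' = 1) (h : f * g' = g' * f ^ 5) {k : ℕ} (hk : Ev f l k) :
    Ev f l (5 * k) := by
  obtain ⟨v, hv0, hv⟩ := hk
  refine ⟨g' v, ?_, ?_⟩
  · intro h0
    apply hv0
    have h2 : g (g' v) = v := by rw [← Module.End.mul_apply, hgg]; rfl
    rw [← h2, h0, map_zero]
  · rw [← Module.End.mul_apply, h, Module.End.mul_apply, pow_apply hv, map_smul, ← pow_mul, mul_comm k 5]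

theorem twelve_le_of [FiniteDimensional K V] {f : Module.End K V} {l : K} (hl : l ^ 13 = 1) (hl1 : l ≠ 1)
    (h : ∀ k < 12, Ev f l (k + 1)) : 12 ≤ finrank K V := by
  have hord : orderOf l = 13 := by
    have : Fact (Nat.Prime 13) := ⟨by norm_num⟩
    exact orderOf_eq_prime hl hl1
  choose! v hv0 hv using h
  have hinj : Function.Injective fun k : Fin 12 => l ^ ((k : ℕ) + 1) := by
    intro a b hab
    have h1 := pow_injOn_Iio_orderOf (x := l) (Set.mem_Iio.2 (by rw [hord]; omega : (a : ℕ) + 1 < orderOf l))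
      (Set.mem_Iio.2 (by rw [hord]; omega : (b : ℕ) + 1 < orderOf l)) hab
    apply Fin.ext
    omega
  have h1 := Module.End.eigenvectors_linearIndependent' f (fun k : Fin 12 => l ^ ((k : ℕ) + 1)) hinj
    (fun k : Fin 12 => v k) (fun k => by
      rw [Module.End.hasEigenvector_iff, Module.End.mem_eigenspace_iff]
      exact ⟨hv k k.2, hv0 k k.2⟩)
  have h2 := h1.fintype_card_le_finrank
  rwa [Fintype.card_fin] at h2

end Abs

section Lin

variable {F : Type*} [Field F] {ι : Type*} [Fintype ι] [DecidableEq ι]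

theorem cl_apply {G : Type*} [Group G] (τ : G →* Matrix.GeneralLinearGroup ι F) (x : G)
    (v : ι → AlgebraicClosure F) (i : ι) :
    cl τ x v i = ∑ j, algebraMap F (AlgebraicClosure F) ((τ x : Matrix ι ι F) i j) * v j := rfl

/-- the Frobenius map on vectors -/
theorem frob [Fintype F] (hF : Fintype.card F = 3) {G : Type*} [Group G] (τ : G →* Matrix.GeneralLinearGroup ι F) (x : G)
    (v : ι → AlgebraicClosure F) : cl τ x (fun i => v i ^ 3) = fun i => (cl τ x v i) ^ 3 := by
  have h3 : Fact (Nat.Prime 3) := ⟨Nat.prime_three⟩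
  have : CharP F 3 := charP_of_card_eq_prime_pow (f := 1) (by rw [hF, pow_one])
  have : CharP (AlgebraicClosure F) 3 := charP_of_injective_algebraMap (algebraMap F _).injective 3
  funext i
  rw [cl_apply, cl_apply, sum_pow_char]
  refine Finset.sum_congr rfl fun j _ => ?_
  rw [mul_pow, ← map_pow]
  congr 2
  have := FiniteField.pow_card ((τ x : Matrix ι ι F) i j)
  rw [hF] at this
  exact this.symm

/-- **An element of order 13 conjugate to its fifth power.** -/
theorem twelve_le [Fintype F] (hF : Fintype.card F = 3) {G : Type*} [Group G]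
    {τ : G →* Matrix.GeneralLinearGroup ι F} (hτ : Function.Injective τ) {x g : G} (hx : x ^ 13 = 1) (hx1 : x ≠ 1)
    (hg : g * x * g⁻¹ = x ^ 5) : 12 ≤ Fintype.card ι := by
  have h3 : Fact (Nat.Prime 3) := ⟨Nat.prime_three⟩
  have : CharP F 3 := charP_of_card_eq_prime_pow (f := 1) (by rw [hF, pow_one])
  have hch : CharP (AlgebraicClosure F) 3 := charP_of_injective_algebraMap (algebraMap F _).injective 3
  have hN : ((13 : ℕ) : AlgebraicClosure F) ≠ 0 := by
    intro h
    exact absurd ((CharP.cast_eq_zero_iff (AlgebraicClosure F) 3 _).1 h) (by norm_num)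
  have hne : cl τ x ≠ 1 := fun h => hx1 (cl_injective hτ h)
  obtain ⟨χ, hχ, hχa⟩ := exists_wt (cl τ) (A := Subgroup.zpowers x) (N := 13)
    (by
      rintro _ ⟨i, rfl⟩ _ ⟨j, rfl⟩
      exact ((Commute.refl x).zpow_zpow i j).eq) hN
    (by
      rintro _ ⟨i, rfl⟩
      show (x ^ i) ^ 13 = 1
      rw [← zpow_natCast, ← zpow_mul, mul_comm, zpow_mul, zpow_natCast, hx, one_zpow])
    (c := ⟨x, Subgroup.mem_zpowers x⟩) hne
  set l := χ ⟨x, Subgroup.mem_zpowers x⟩ with hl
  have hE1 : Ev (cl τ x) l 1 := by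
    obtain ⟨v, hv, hv0⟩ := Submodule.exists_mem_ne_zero_of_ne_bot hχ
    have h1 := (mem_wt.1 hv) ⟨x, Subgroup.mem_zpowers x⟩
    refine ⟨v, hv0, ?_⟩
    rw [pow_one]
    exact h1
  have h13 : l ^ 13 = 1 := pow_thirteen (by rw [← map_pow, hx, map_one]) hE1
  have hE3 : ∀ k, Ev (cl τ x) l k → Ev (cl τ x) l (3 * k) := by
    rintro k ⟨v, hv0, hv⟩
    refine ⟨fun i => v i ^ 3, ?_, ?_⟩
    · intro h
      apply hv0
      funext i
      exact (pow_eq_zero_iff (by norm_num)).1 (congrFun h i)
    · rw [frob hF, hv]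
      funext i
      show (l ^ k * v i) ^ 3 = l ^ (3 * k) * v i ^ 3
      rw [mul_pow, ← pow_mul, mul_comm k 3]
  have hE5 : ∀ k, Ev (cl τ x) l k → Ev (cl τ x) l (5 * k) := fun k hk =>
    Ev.five (g := cl τ g) (g' := cl τ g⁻¹) (by rw [← map_mul, mul_inv_cancel, map_one])
      (by rw [← map_pow, ← map_mul, ← map_mul, ← hg]; congr 1; group) hk
  have h5 := hE5 1 hE1
  have h12 := (hE5 _ h5).mod (k' := 12) h13 (by norm_num)
  have h8 := (hE5 _ h12).mod (k' := 8) h13 (by norm_num)
  have a3 := hE3 1 hE1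
  have a9 := (hE3 _ a3).mod (k' := 9) h13 (by norm_num)
  have b2 := (hE3 _ h5).mod (k' := 2) h13 (by norm_num)
  have b6 := (hE3 _ b2).mod (k' := 6) h13 (by norm_num)
  have c10 := (hE3 _ h12).mod (k' := 10) h13 (by norm_num)
  have c4 := (hE3 _ c10).mod (k' := 4) h13 (by norm_num)
  have d11 := (hE3 _ h8).mod (k' := 11) h13 (by norm_num)
  have d7 := (hE3 _ d11).mod (k' := 7) h13 (by norm_num)
  have key := twelve_le_of h13 hχa (f := cl τ x) (by
    intro k hk
    interval_cases k
    · exact hE1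
    · exact b2
    · exact a3.mod h13 (by norm_num)
    · exact c4
    · exact h5.mod h13 (by norm_num)
    · exact b6
    · exact d7
    · exact h8
    · exact a9
    · exact c10
    · exact d11
    · exact h12)
  rwa [Module.finrank_fintype_fun_eq_card] at key

end Lin

end Cfsg.Agent.H983.ElX
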